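import Cfsg.Agent.Lib.Fusion.Normal
import Cfsg.Agent.Lib.Fusion.Invariant
import Cfsg.Agent.Lib.Transfer.PResidual

/-!
# Comparing subsystems through the automorphisms of a normal subgroup
-/

set_option autoImplicit false

namespace CfsgLib.Fusion.ModelNormal

open Cfsg Cfsg.FusionSystem CfsgLib.Fusion

variable {Ω : Type*} [Group Ω] {S T R : Subgroup Ω} {F : Cfsg.FusionSystem S} {p : ℕ}

/-- The automorphism group of a subgroup in a strongly invariant subsystem is normalized. -/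
theorem autGroup_conj_mem {E : Cfsg.FusionSystem T} (h : IsStronglyInvariant E F) (hTS : T ≤ S)
    {Q : Subgroup Ω} [Finite Q] (hQ : Q ≤ T) {γ δ : MulAut Q} (hγ : γ ∈ F.autGroup Q)
    (hδ : δ ∈ E.autGroup Q) : γ * δ * γ⁻¹ ∈ E.autGroup Q := by
  obtain ⟨χ, hχ, hx⟩ := h Q Q le_rfl hQ _ ((mem_autGroup_iff_hom hQ).1 hδ) (fun x => (δ x).2) _
    ((mem_autGroup_iff_hom (hQ.trans hTS)).1 hγ)
  have hle : Q ≤ (Q.subgroupOf Q).map (Q.subtype.comp γ.toMonoidHom) := fun y hy => by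
    obtain ⟨x, hxy⟩ := γ.surjective ⟨y, hy⟩
    exact ⟨x, x.2, congrArg Subtype.val hxy⟩
  refine (mem_autGroup_iff_hom hQ).2 (mem_of_restrict hχ hle _ fun x => ?_)
  have h1 := hx (γ⁻¹ x) ⟨γ⁻¹ x, (γ⁻¹ x).2, rfl⟩
  show ((γ (δ (γ⁻¹ x)) : Q) : Ω) = _
  refine h1.symm.trans (congrArg χ (Subtype.ext ?_))
  show ((γ (γ⁻¹ x) : Q) : Ω) = x
  rw [MulAut.apply_inv_self]

/-- Two saturated subsystems in which the same normal subgroup is centric are compared by their
automorphisms of that subgroup. -/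
theorem le_of_autGroup [Finite T] [Fact p.Prime] (hT : IsPGroup p T) (hTS : T ≤ S)
    {E E' : Cfsg.FusionSystem T} (hE : E.IsSaturated p) (hE' : E'.IsSaturated p)
    (hEF : E.IsSubsystemOf F) (hE'F : E'.IsSubsystemOf F) (hinv : IsStronglyInvariant E' F)
    (hR : F.IsNormal R) (hRT : R ≤ T) (hC : centralizerIn T R ≤ R)
    (hA : E.autGroup R ≤ E'.autGroup R) (P : Subgroup Ω) : E.Hom P ⊆ E'.Hom P := by
  have hRsc := isNormal_stronglyClosed hR
  have hRn : T ≤ Subgroup.normalizer (R : Set Ω) := hTS.trans (stronglyClosed_le_normalizer hRsc)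
  have hscE : E.StronglyClosed R := ⟨hRT, fun X hX φ hφ x => hRsc.2 X hX φ (hEF X hφ) x⟩
  have hscE' : E'.StronglyClosed R := ⟨hRT, fun X hX φ hφ x => hRsc.2 X hX φ (hE'F X hφ) x⟩
  have hRfn : E'.IsFullyNormalized R := ⟨hRT, fun X hX => by
    have : Finite (normalizerIn T R) := finite_of_le (normalizerIn_le T R)
    exact Nat.card_le_card_of_injective
      (fun x : normalizerIn T X => (⟨x, x.2.1, hRn x.2.1⟩ : normalizerIn T R))
      fun a b h => Subtype.ext (congrArg Subtype.val h :)⟩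
  have hrec := isReceptive_of_isFullyNormalized hT hE' hRfn
  refine alperin hT hE E' (fun Q hQ => ?_) P
  have hQn : E.IsFullyNormalized Q := by
    rcases hQ with rfl | hQ
    exacts [isFullyNormalized_top E, hQ.2.1]
  have : Finite Q := finite_of_le hQn.1
  have : Finite (MulAut Q) := finite_mulAut
  have hQS : Q ≤ S := hQn.1.trans hTS
  -- the normal subgroup lies in `Q`
  have hRQ : R ≤ Q := by
    rcases hQ with rfl | hQ
    · exact hRT
    refine le_of_normalizer_inf_le hT hQn.1 hRT hRn fun x hx hxN => ?_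
    set B := (autInducedBy R Q).subgroupOf (E.autGroup Q)
    have hBn : B.Normal := by
      constructor
      intro c hc α
      obtain ⟨g, hgN, hgR, hgc⟩ := exists_eq_conjAut (show (c : MulAut Q) ∈ autInducedBy R Q from hc)
      obtain ⟨ψ, -, hag, hRψ⟩ := hR.2 Q _ (hEF Q ((mem_autGroup_iff_hom hQn.1).1 α.2))
      show (α : MulAut Q) * (c : MulAut Q) * (α : MulAut Q)⁻¹ ∈ autInducedBy R Q
      rw [hgc]
      refine mem_autInducedBy_iff.2
        ⟨ψ ⟨g, le_sup_right (a := Q) hgR⟩, mem_of_map_subgroupOf_sup_eq hRψ ⟨g, hgR⟩, ?_⟩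
      exact fun y => congr_conjAut_of_extends (e := ((α : MulAut Q) : Q ≃* Q)) le_sup_left hag _ hgN y
    have hBp : IsPGroup p B :=
      IsPGroup.comap_subtype ((isPGroup_autInducedBy hT Q).to_le (autInducedBy_mono hRT Q))
    have hle : B.map (E.autGroup Q).subtype ≤ Cfsg.Inn Q :=
      (Subgroup.map_mono (CfsgLib.Solvable.le_pCore hBn hBp)).trans
        (isRadical_of_isEssential hT hE hQ).2.le
    refine mem_of_conjAut_mem_inn (centralizerIn_le_of_isCentric hQ.1) hQn.1 (hRT hx) hxN (hle ?_)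
    exact ⟨⟨conjAut Q x hxN, autInducedBy_le_autGroup E hQn.1 (conjAut_mem_autInducedBy (hRT hx) hxN)⟩,
      conjAut_mem_autInducedBy (P := Q) hx hxN, rfl⟩
  -- automorphisms of order prime to `p`
  have hcop : ∀ α : E.autGroup Q, Nat.Coprime (orderOf α) p → (α : MulAut Q) ∈ E'.autGroup Q := by
    intro α hα
    have hαE := (mem_autGroup_iff_hom hQn.1).1 α.2
    have hαR := restrict_mem hαE hRQ
    have : Finite R := finite_of_le hRT
    obtain ⟨a, ha, hax⟩ := exists_aut hαR (range_eq_of_le (hom_inj hαR)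
      fun x => hscE.2 R le_rfl _ hαR x)
    have ha' : IsFIso E' (a : R ≃* R) := (mem_autGroup_iff hRT).1 (hA ha)
    have hQN : Q ≤ normalizerIn T R := fun x hx => ⟨hQn.1 hx, hRn (hQn.1 hx)⟩
    obtain ⟨ψ, hψ, -, hψa⟩ := ha'.exists_extension hrec hRQ hQN fun g hg => by
      have hag : ∀ x : R, (Q.subtype.comp (α : MulAut Q).toMonoidHom) ⟨x, hRQ x.2⟩ = (a x : Ω) :=
        fun x => (hax x).symm
      rw [congr_conjAut_eq_of_extends hRQ hag hg (hQN hg).2]
      exact conjAut_mem_autInducedBy (hQn.1 ((α : MulAut Q) ⟨g, hg⟩).2) _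
    have key : ∀ (θ : Q →* Ω), θ ∈ E'.Hom Q → (∀ r : R, θ ⟨r, hRQ r.2⟩ = (a r : Ω)) →
        ∀ x : Q, θ x ∈ Q := by
      intro θ hθ hθa x
      have h1 : (((α : MulAut Q) x : Q) : Ω)⁻¹ * θ x ∈ centralizerIn T R := by
        refine ⟨T.mul_mem (T.inv_mem (hQn.1 ((α : MulAut Q) x).2)) (E'.le_of_mem hθ |>.2 x),
          Subgroup.mem_centralizer_iff.2 fun r hr => ?_⟩
        obtain ⟨r', hr'⟩ := a.surjective ⟨r, hr⟩
        have hconj : (x : Ω) * r' * (x : Ω)⁻¹ ∈ R :=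
          conj_mem_of_mem_normalizer (hQN x.2).2 r'.2
        have e : (⟨(x : Ω) * r' * (x : Ω)⁻¹, hRQ hconj⟩ : Q) = x * ⟨r', hRQ r'.2⟩ * x⁻¹ := Subtype.ext rfl
        have h2 := hθa ⟨_, hconj⟩
        rw [e, map_mul, map_mul, map_inv, hθa] at h2
        have h3 : Q.subtype ((α : MulAut Q) ⟨(x : Ω) * r' * (x : Ω)⁻¹, hRQ hconj⟩) = (a ⟨_, hconj⟩ : Ω) :=
          (hax ⟨_, hconj⟩).symm
        rw [e, map_mul, map_mul, map_inv, map_mul, map_mul, map_inv, ← h2] at h3
        have h4 : (((α : MulAut Q) ⟨r', hRQ r'.2⟩ : Q) : Ω) = r := by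
          have := hax r'
          rw [hr'] at this
          exact this.symm
        simp only [Subgroup.subtype_apply] at h3
        rw [h4, show ((a r' : R) : Ω) = r by rw [hr']] at h3
        calc r * ((((α : MulAut Q) x : Q) : Ω)⁻¹ * θ x)
            = (((α : MulAut Q) x : Q) : Ω)⁻¹ *
              ((((α : MulAut Q) x : Q) : Ω) * r * (((α : MulAut Q) x : Q) : Ω)⁻¹) * θ x := by group
          _ = _ := by rw [h3]; group
      simpa [mul_assoc] using Q.mul_mem ((α : MulAut Q) x).2 (hRQ (hC h1))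
    obtain ⟨β, hβ, hβx⟩ := exists_aut hψ (range_eq_of_le (hom_inj hψ) (key ψ hψ hψa))
    have hαF : (α : MulAut Q) ∈ F.autGroup Q := (mem_autGroup_iff_hom hQS).2 (hEF Q hαE)
    have hβF : β ∈ F.autGroup Q :=
      (mem_autGroup_iff_hom hQS).2 (hE'F Q ((mem_autGroup_iff_hom hQn.1).1 hβ))
    set κ : MulAut Q := β⁻¹ * (α : MulAut Q) with hκdef
    have hκR : ∀ r : R, κ ⟨r, hRQ r.2⟩ = ⟨r, hRQ r.2⟩ := fun r => by
      show β⁻¹ ((α : MulAut Q) ⟨r, hRQ r.2⟩) = _
      rw [show (α : MulAut Q) ⟨r, hRQ r.2⟩ = β ⟨r, hRQ r.2⟩ from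
        Subtype.ext (((hax r).symm.trans (hψa r).symm).trans (hβx _).symm), MulAut.inv_apply_self]
    have hz : ∀ x : Q, ((x⁻¹ * κ x : Q) : Ω) ∈ R := by
      intro x
      refine hC ⟨hQn.1 (x⁻¹ * κ x).2, Subgroup.mem_centralizer_iff.2 fun r hr => ?_⟩
      have hconj : (x : Ω) * r * (x : Ω)⁻¹ ∈ R := conj_mem_of_mem_normalizer (hQN x.2).2 hr
      have h1 := hκR ⟨_, hconj⟩
      rw [show (⟨(x : Ω) * r * (x : Ω)⁻¹, hRQ hconj⟩ : Q) = x * ⟨r, hRQ hr⟩ * x⁻¹ from Subtype.ext rfl,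
        map_mul, map_mul, map_inv, hκR ⟨r, hr⟩] at h1
      have h2 : (κ x : Ω) * r * (κ x : Ω)⁻¹ = (x : Ω) * r * (x : Ω)⁻¹ := congrArg Subtype.val h1
      show r * ((x : Ω)⁻¹ * (κ x : Ω)) = (x : Ω)⁻¹ * (κ x : Ω) * r
      calc r * ((x : Ω)⁻¹ * (κ x : Ω))
          = (x : Ω)⁻¹ * ((x : Ω) * r * (x : Ω)⁻¹) * (κ x : Ω) := by group
        _ = _ := by rw [← h2]; group
    have hpow : ∀ (x : Q) (n : ℕ), (κ ^ n) x = x * (x⁻¹ * κ x) ^ n := by
      intro x n
      induction n with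
      | zero => simp
      | succ n ih =>
        rw [pow_succ', MulAut.mul_apply, ih, map_mul, map_pow,
          show κ (x⁻¹ * κ x) = x⁻¹ * κ x from hκR ⟨_, hz x⟩, pow_succ' (x⁻¹ * κ x),
          ← mul_assoc x, mul_inv_cancel_left]
    obtain ⟨m, hm⟩ := IsPGroup.iff_card.1 (hT.to_le hRT)
    have hκm : κ ^ p ^ m = 1 := MulEquiv.ext fun x => by
      have h1 : (⟨_, hz x⟩ : R) ^ p ^ m = 1 := by rw [← hm]; exact pow_card_eq_one'
      rw [hpow, show (x⁻¹ * κ x) ^ p ^ m = 1 from Subtype.ext (by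
        have := congrArg Subtype.val h1
        simpa using this)]
      simp
    set N := (E'.autGroup Q).subgroupOf (F.autGroup Q)
    have : N.Normal := ⟨fun δ hδ γ => autGroup_conj_mem hinv hTS hQn.1 γ.2 hδ⟩
    set aF : F.autGroup Q := ⟨α, hαF⟩
    have hq : (QuotientGroup.mk' N aF) = QuotientGroup.mk' N ⟨κ, mul_mem (inv_mem hβF) hαF⟩ :=
      QuotientGroup.eq.2 (by
        show ((α : MulAut Q))⁻¹ * (β⁻¹ * (α : MulAut Q)) ∈ E'.autGroup Q
        have := autGroup_conj_mem hinv hTS hQn.1 (inv_mem hαF) (inv_mem hβ)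
        rwa [inv_inv, mul_assoc] at this)
    have h1 : orderOf (QuotientGroup.mk' N aF) ∣ orderOf (α : MulAut Q) :=
      (orderOf_map_dvd _ aF).trans (Subgroup.orderOf_coe aF).symm.dvd
    have h2 : orderOf (QuotientGroup.mk' N aF) ∣ p ^ m := by
      rw [hq]
      refine orderOf_dvd_of_pow_eq_one ?_
      rw [← map_pow, show (⟨κ, mul_mem (inv_mem hβF) hαF⟩ : F.autGroup Q) ^ p ^ m = 1 from
        Subtype.ext hκm, map_one]
    rw [Subgroup.orderOf_coe] at h1
    have h3 : orderOf (QuotientGroup.mk' N aF) = 1 :=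
      Nat.eq_one_of_dvd_coprimes (hα.pow_right m) h1 h2
    exact (QuotientGroup.eq_one_iff aF).1 (orderOf_eq_one_iff.1 h3)
  intro α hα
  obtain ⟨-, U, hU⟩ := isFullyAutomized_of_isFullyNormalized hT hE hQn
  have htop := CfsgLib.Transfer.pResidual_sup_of_sylow U
  have hmem : (⟨α, hα⟩ : E.autGroup Q) ∈
      (↑(pResidual p (E.autGroup Q) ⊔ (U : Subgroup (E.autGroup Q))) : Set _) := by rw [htop]; trivial
  rw [Subgroup.normal_mul] at hmem
  obtain ⟨β, hβ, t, ht, heq⟩ := hmem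
  have ht' : (t : MulAut Q) ∈ autInducedBy T Q := by
    have : t ∈ (U : Subgroup (E.autGroup Q)) := ht
    rwa [hU] at this
  rw [show α = (β : MulAut Q) * (t : MulAut Q) from (congrArg Subtype.val heq).symm]
  refine mul_mem ?_ (autInducedBy_le_autGroup E' hQn.1 ht')
  clear heq
  have hle : pResidual p (E.autGroup Q) ≤ (E'.autGroup Q).comap (E.autGroup Q).subtype :=
    (Subgroup.closure_le _).2 fun x hx => hcop x hx
  exact hle hβ

end CfsgLib.Fusion.ModelNormal
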