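import Cfsg.Agent.Lib.Fusion.ModelNormal.Compare
import Cfsg.Agent.Lib.Fusion.NormalSubgroup
import Mathlib.GroupTheory.Focal

/-!
# The normal subgroup of a model attached to a normal subsystem
-/

set_option autoImplicit false
set_option linter.unusedSectionVars false

namespace CfsgLib.Fusion.ModelNormal

open Cfsg Cfsg.FusionSystem CfsgLib.Fusion
open scoped commutatorElement

variable {G : Type*} [Group G] [Finite G] {p : ℕ} [Fact p.Prime] {S : Sylow p G} {T : Subgroup G}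

/-- The elements moving every element of the core inside its coset of `R`. -/
def stab (p : ℕ) (R : Subgroup G) [R.Normal] : Subgroup G where
  carrier := {h | ∀ q ∈ pCore p G, q⁻¹ * h * q * h⁻¹ ∈ R}
  one_mem' := fun q _ => by simp [R.one_mem]
  mul_mem' := by
    intro a b ha hb q hq
    have hq' := (CfsgLib.Solvable.pCore_normal p G).conj_mem q hq b
    have := R.mul_mem (hb q hq) (ha _ hq')
    simpa [mul_assoc] using this
  inv_mem' := by
    intro a ha q hq
    have hq' : a⁻¹ * q * a ∈ pCore p G := by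
      simpa using (CfsgLib.Solvable.pCore_normal p G).conj_mem q hq a⁻¹
    have := R.inv_mem (ha _ hq')
    simpa [mul_assoc] using this

theorem mem_stab {R : Subgroup G} [R.Normal] {h : G} :
    h ∈ stab p R ↔ ∀ q ∈ pCore p G, q⁻¹ * h * q * h⁻¹ ∈ R := Iff.rfl

/-- An element of the stabilizer centralizing `R` lies in the core. -/
theorem mem_pCore_of_stab (hG : Subgroup.centralizer ((pCore p G : Subgroup G) : Set G) ≤ pCore p G)
    {R : Subgroup G} [R.Normal] (hRQ : R ≤ pCore p G) {g : G} (hg : g ∈ stab p R)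
    (hc : g ∈ Subgroup.centralizer (R : Set G)) : g ∈ pCore p G := by
  have hQn := CfsgLib.Solvable.pCore_normal p G
  set N := stab p R ⊓ Subgroup.centralizer (R : Set G)
  have hN : N.Normal := ⟨fun n hn g => ⟨fun q hq => by
    have := (inferInstance : R.Normal).conj_mem _
      (hn.1 (g⁻¹ * q * g) (by simpa using hQn.conj_mem q hq g⁻¹)) g
    simpa [mul_assoc] using this, Subgroup.mem_centralizer_iff.2 fun r hr => by
    have h1 := Subgroup.mem_centralizer_iff.1 hn.2 (g⁻¹ * r * g)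
      (by simpa using (inferInstance : R.Normal).conj_mem r hr g⁻¹)
    calc r * (g * n * g⁻¹) = g * (g⁻¹ * r * g * n) * g⁻¹ := by group
      _ = g * (n * (g⁻¹ * r * g)) * g⁻¹ := by rw [h1]
      _ = _ := by group⟩⟩
  obtain ⟨m, hm⟩ := IsPGroup.iff_card.1 ((CfsgLib.Solvable.pCore_isPGroup p G).to_le hRQ)
  have hNp : IsPGroup p N := by
    intro x
    have hn : ∀ n : ℕ, ∀ q ∈ pCore p G,
        q⁻¹ * (x : G) ^ n * q * ((x : G) ^ n)⁻¹ = (q⁻¹ * (x : G) * q * (x : G)⁻¹) ^ n := by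
      intro n q hq
      induction n with
      | zero => simp
      | succ n ih =>
        set z := q⁻¹ * (x : G) * q * (x : G)⁻¹ with hzdef
        have hzR : z ∈ R := x.2.1 q hq
        have hcom : Commute (x : G) (z ^ n) :=
          (show Commute (x : G) z from (Subgroup.mem_centralizer_iff.1 x.2.2 z hzR).symm).pow_right n
        calc q⁻¹ * (x : G) ^ (n + 1) * q * ((x : G) ^ (n + 1))⁻¹
            = z * ((x : G) * (q⁻¹ * (x : G) ^ n * q * ((x : G) ^ n)⁻¹) * (x : G)⁻¹) := by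
              rw [hzdef, pow_succ']
              group
          _ = _ := by rw [ih, hcom.eq, mul_inv_cancel_right, pow_succ']
    have hxQ : (x : G) ^ p ^ m ∈ pCore p G := hG (Subgroup.mem_centralizer_iff.2 fun q hq => by
      have h1 := hn (p ^ m) q hq
      have h2 : (⟨_, x.2.1 q hq⟩ : R) ^ p ^ m = 1 := by rw [← hm]; exact pow_card_eq_one'
      rw [show (q⁻¹ * (x : G) * q * (x : G)⁻¹) ^ p ^ m = 1 by
        have := congrArg Subtype.val h2
        simpa using this] at h1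
      calc q * (x : G) ^ p ^ m
          = q * (q⁻¹ * (x : G) ^ p ^ m * q * ((x : G) ^ p ^ m)⁻¹) * (x : G) ^ p ^ m := by rw [h1, mul_one]
        _ = _ := by group)
    obtain ⟨k, hk⟩ := CfsgLib.Solvable.pCore_isPGroup p G ⟨_, hxQ⟩
    refine ⟨m + k, Subtype.ext ?_⟩
    have := congrArg Subtype.val hk
    simpa [pow_add, pow_mul] using this
  exact CfsgLib.Solvable.le_pCore hN hNp ⟨hg, hc⟩

theorem mem_hom_group {P : Subgroup G} (hP : P ≤ (S : Subgroup G)) {φ : P →* G}
    (h : ∀ x, φ x ∈ (S : Subgroup G)) (g : G) (hg : ∀ x : P, φ x = g * (x : G) * g⁻¹) :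
    φ ∈ (groupFusionSystem (S : Subgroup G)).Hom P :=
  ⟨hP, h, g, hg⟩

theorem stronglyInvariant_of_eq_inf (S : Sylow p G) (H : Subgroup G) [H.Normal] {T : Subgroup G}
    (hT : T = (S : Subgroup G) ⊓ H) (hTH : T ≤ H) :
    IsStronglyInvariant (fusionSystemOfSubgroup H T hTH) (groupFusionSystem (S : Subgroup G)) := by
  subst hT
  exact stronglyInvariant_of_isInvariantIn (fusionSystemOfSubgroup_isInvariantIn S H)

/-- Existence and uniqueness of the normal subgroup. -/
theorem existsUnique_normal (hG : Subgroup.centralizer ((pCore p G : Subgroup G) : Set G) ≤ pCore p G)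
    (hTS : T ≤ (S : Subgroup G)) (E : Cfsg.FusionSystem T)
    (hE : E.IsNormalIn (groupFusionSystem (S : Subgroup G)) p) :
    ∃ H : Subgroup G, (∃ hTH : T ≤ H, H.Normal ∧ (∃ R : Sylow p H, (R : Subgroup H) = T.subgroupOf H) ∧
      ∀ P : Subgroup G, E.Hom P = (fusionSystemOfSubgroup H T hTH).Hom P) ∧
      ∀ H' : Subgroup G, (∃ hTH' : T ≤ H', H'.Normal ∧
        (∃ R : Sylow p H', (R : Subgroup H') = T.subgroupOf H') ∧
        ∀ P : Subgroup G, E.Hom P = (fusionSystemOfSubgroup H' T hTH').Hom P) → H' = H := by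
  classical
  obtain ⟨⟨hEs, hF, hEinv⟩, hext⟩ := hE
  have hinv := stronglyInvariant_of_isInvariantIn hEinv
  obtain ⟨hEF, hTsc, -, -⟩ := hEinv
  set F := groupFusionSystem (S : Subgroup G)
  have hSp : IsPGroup p (S : Subgroup G) := S.2
  have hTp : IsPGroup p T := hSp.to_le hTS
  have hQS : pCore p G ≤ (S : Subgroup G) := CfsgLib.Solvable.pCore_le_sylow S
  have hQn := CfsgLib.Solvable.pCore_normal p G
  -- strong closure in the group
  have hclosed : ∀ x ∈ T, ∀ g, g * x * g⁻¹ ∈ (S : Subgroup G) → g * x * g⁻¹ ∈ T := by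
    intro x hx g hgS
    have hle : Subgroup.zpowers x ≤ T := Subgroup.zpowers_le.2 hx
    refine hTsc.2 _ hle (conjHom _ g) (mem_hom_group (hle.trans hTS) ?_ g fun _ => rfl)
      ⟨x, Subgroup.mem_zpowers x⟩
    rintro ⟨y, hy⟩
    obtain ⟨k, rfl⟩ := hy
    show g * x ^ k * g⁻¹ ∈ (S : Subgroup G)
    rw [← conj_zpow]
    exact zpow_mem hgS k
  have hTn : ∀ s ∈ (S : Subgroup G), ∀ x ∈ T, s * x * s⁻¹ ∈ T := fun s hs x hx =>
    hclosed x hx s ((S : Subgroup G).mul_mem ((S : Subgroup G).mul_mem hs (hTS hx)) (inv_mem hs))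
  have hTN : ∀ s ∈ (S : Subgroup G), s ∈ Subgroup.normalizer (T : Set G) := fun s hs =>
    stronglyClosed_le_normalizer hTsc hs
  set R := T ⊓ pCore p G with hRdef
  have hRn : R.Normal := ⟨fun x hx g =>
    ⟨hclosed x hx.1 g (hQS (hQn.conj_mem x hx.2 g)), hQn.conj_mem x hx.2 g⟩⟩
  have hRT : R ≤ T := inf_le_left
  have hRQ : R ≤ pCore p G := inf_le_right
  have hRS : R ≤ (S : Subgroup G) := hRT.trans hTS
  have hFR : F.IsNormal R := by
    refine ⟨hRS, fun P φ hφ => ?_⟩
    obtain ⟨hPS, hφS, g, hg⟩ := hφ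
    refine ⟨conjHom _ g, mem_hom_group (sup_le hPS hRS) (forall_mem_of_sup (fun x => ?_) fun x => ?_) g
      fun _ => rfl, fun x => (hg x).symm, ?_⟩
    · show g * (x : G) * g⁻¹ ∈ (S : Subgroup G)
      rw [← hg]
      exact hφS x
    · exact hRS (hRn.conj_mem x x.2 g)
    · ext y
      constructor
      · rintro ⟨x, hx, rfl⟩
        exact hRn.conj_mem x hx g
      · intro hy
        have h1 : g⁻¹ * y * g ∈ R := by simpa using hRn.conj_mem y hy g⁻¹
        refine ⟨⟨_, le_sup_right (a := P) h1⟩, h1, ?_⟩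
        show g * (g⁻¹ * y * g) * g⁻¹ = y
        group
  let ρ : G →* MulAut R := MulAut.conjNormal
  have hρ : ∀ (g : G) (x : R), ((ρ g x : R) : G) = g * x * g⁻¹ := fun g x => MulAut.conjNormal_apply g x
  have hρF : ∀ g, ρ g ∈ F.autGroup R := fun g =>
    (mem_autGroup_iff_hom hRS).2 (mem_hom_group hRS (fun x => hRS (ρ g x).2) g (hρ g))
  have hTstab : T ≤ stab p R := fun t ht q hq => by
    refine ⟨?_, ?_⟩
    · have h1 : q⁻¹ * t * q ∈ T := by simpa using hTn q⁻¹ (inv_mem (hQS hq)) t ht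
      exact T.mul_mem h1 (T.inv_mem ht)
    · have h2 := (pCore p G).mul_mem ((pCore p G).inv_mem hq) (hQn.conj_mem q hq t)
      simpa [mul_assoc] using h2
  have hC : centralizerIn T R ≤ R := fun x hx =>
    ⟨hx.1, mem_pCore_of_stab hG hRQ (hTstab hx.1) hx.2⟩
  -- the big normal subgroup
  set H₀ := stab p R ⊓ (E.autGroup R).comap ρ with hH₀
  have : Finite R := inferInstance
  have hH₀n : H₀.Normal := ⟨fun n hn g => ⟨fun q hq => by
    have := hRn.conj_mem _ (hn.1 (g⁻¹ * q * g) (by simpa using hQn.conj_mem q hq g⁻¹)) g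
    simpa [mul_assoc] using this, by
    show ρ (g * n * g⁻¹) ∈ E.autGroup R
    rw [map_mul, map_mul, map_inv]
    exact autGroup_conj_mem hinv hTS hRT (hρF g) hn.2⟩⟩
  have hρT : ∀ t ∈ T, ρ t ∈ autInducedBy T R := fun t ht =>
    mem_autInducedBy_iff.2 ⟨t, ht, hρ t⟩
  have hTH₀ : T ≤ H₀ := fun t ht => ⟨hTstab ht, autInducedBy_le_autGroup E hRT (hρT t ht)⟩
  have hRfn : E.IsFullyNormalized R := ⟨hRT, fun X hX => by
    exact Nat.card_le_card_of_injective
      (fun x : normalizerIn T X => (⟨x, x.2.1, Subgroup.mem_normalizer_iff.2 fun r =>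
        ⟨fun hr => hRn.conj_mem r hr x, fun hr => by
          simpa [mul_assoc] using hRn.conj_mem _ hr (x : G)⁻¹⟩⟩ : normalizerIn T R))
      fun a b h => Subtype.ext (congrArg Subtype.val h :)⟩
  obtain ⟨-, PA, hPA⟩ := isFullyAutomized_of_isFullyNormalized hTp hEs hRfn
  have hrec := isReceptive_of_isFullyNormalized hTp hEs hRfn
  -- the Sylow subgroup of `H₀`
  have hSH₀ : ∀ x ∈ (S : Subgroup G), x ∈ H₀ → ∃ t ∈ T, t⁻¹ * x ∈ pCore p G := by
    intro x hxS hx
    set U := (autInducedBy (S : Subgroup G) R).subgroupOf (E.autGroup R)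
    have hU : IsPGroup p U := (isPGroup_autInducedBy hSp R).comap_subtype
    have hle : (PA : Subgroup (E.autGroup R)) ≤ U := by
      rw [hPA]
      exact fun a ha => autInducedBy_mono hTS R ha
    have heq := PA.is_maximal' hU hle
    have hmem : (⟨ρ x, hx.2⟩ : E.autGroup R) ∈ U := mem_autInducedBy_iff.2 ⟨x, hxS, hρ x⟩
    rw [heq, hPA] at hmem
    obtain ⟨t, ht, hxt⟩ := mem_autInducedBy_iff.1 (Subgroup.mem_subgroupOf.1 hmem)
    refine ⟨t, ht, mem_pCore_of_stab hG hRQ
      ((stab p R).mul_mem ((stab p R).inv_mem (hTstab ht)) hx.1) ?_⟩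
    refine Subgroup.mem_centralizer_iff.2 fun r hr => ?_
    have h1 : x * r * x⁻¹ = t * r * t⁻¹ := (hρ x ⟨r, hr⟩).symm.trans (hxt ⟨r, hr⟩)
    calc r * (t⁻¹ * x) = t⁻¹ * (t * r * t⁻¹) * x := by group
      _ = _ := by rw [← h1]; group
  obtain ⟨R₀, hR₀⟩ := isSylowIn_inf_normal S H₀
  set Pg : Subgroup H₀ := ((R₀ : Sylow p H₀) : Subgroup H₀) with hPgdef
  have hPgmem : ∀ y : H₀, y ∈ Pg ↔ (y : G) ∈ (S : Subgroup G) := fun y => by
    show y ∈ Pg ↔ _
    rw [hR₀, Subgroup.mem_subgroupOf]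
    exact ⟨fun h => h.1, fun h => ⟨h, y.2⟩⟩
  set Tn : Subgroup Pg := (T.subgroupOf H₀).subgroupOf Pg
  have hTnn : Tn.Normal := ⟨fun n hn g => hTn _ ((hPgmem _).1 g.2) _ hn⟩
  have hfoc : Pg.focalSubgroupOf ≤ Tn := by
    intro z hz
    have hz' : (z : H₀) ∈ Pg.focalSubgroup := hz
    suffices Pg.focalSubgroup ≤ T.subgroupOf H₀ from this hz'
    rw [Subgroup.focalSubgroup_def, Subgroup.closure_le]
    rintro w ⟨hw, x, hx, u, rfl⟩
    show ((⁅x, u⁆ : H₀) : G) ∈ T
    obtain ⟨t, ht, hq⟩ := hSH₀ x ((hPgmem x).1 hx) x.2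
    set q := t⁻¹ * (x : G) with hqdef
    have hr : q * (u : G) * q⁻¹ * (u : G)⁻¹ ∈ R := by
      have := u.2.1 q⁻¹ ((pCore p G).inv_mem hq)
      rwa [inv_inv] at this
    have hval : ((⁅x, u⁆ : H₀) : G) =
        t * (q * (u : G) * q⁻¹ * (u : G)⁻¹) * ((u : G) * t⁻¹ * (u : G)⁻¹) := by
      rw [hqdef, commutatorElement_def]
      simp only [Subgroup.coe_mul, Subgroup.coe_inv]
      group
    have hS' : (u : G) * t⁻¹ * (u : G)⁻¹ ∈ (S : Subgroup G) := by
      have h1 := (S : Subgroup G).mul_mem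
        ((S : Subgroup G).inv_mem ((S : Subgroup G).mul_mem (hTS ht) (hRS hr))) ((hPgmem _).1 hw)
      rwa [hval, inv_mul_cancel_left] at h1
    rw [hval]
    exact T.mul_mem (T.mul_mem ht (hRT hr)) (hclosed _ (T.inv_mem ht) u hS')
  let τ : H₀ →* Pg ⧸ Tn :=
    (QuotientGroup.lift Pg.focalSubgroupOf (QuotientGroup.mk' Tn)
      (by rwa [QuotientGroup.ker_mk'])).comp Pg.transferFocal
  have hτ : ∀ y : Pg, τ (y : H₀) = (QuotientGroup.mk' Tn y) ^ Pg.index := fun y => by
    show QuotientGroup.lift Pg.focalSubgroupOf (QuotientGroup.mk' Tn)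
      (by rwa [QuotientGroup.ker_mk']) (Pg.transferFocal y) = _
    rw [Pg.transferFocal_eq_pow, map_pow]
    rfl
  -- the subgroup
  set gens : Set G := {x | (∃ t ∈ T, ∃ g, x = g * t * g⁻¹) ∨ (x ∈ H₀ ∧ Nat.Coprime (orderOf x) p)}
  set H := Subgroup.closure gens
  have hHH₀ : H ≤ H₀ := (Subgroup.closure_le _).2 fun x hx => by
    rcases hx with ⟨t, ht, g, rfl⟩ | hx
    exacts [hH₀n.conj_mem t (hTH₀ ht) g, hx.1]
  have hHn : H.Normal := ⟨fun n hn g => by
    have hle : H ≤ H.comap (MulAut.conj g).toMonoidHom := (Subgroup.closure_le _).2 fun x hx => by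
      refine Subgroup.subset_closure ?_
      rcases hx with ⟨t, ht, g', rfl⟩ | ⟨hx, hcop⟩
      · exact Or.inl ⟨t, ht, g * g', by
          show g * (g' * t * g'⁻¹) * g⁻¹ = g * g' * t * (g * g')⁻¹
          group⟩
      · refine Or.inr ⟨hH₀n.conj_mem x hx g, ?_⟩
        show Nat.Coprime (orderOf ((MulAut.conj g).toMonoidHom x)) p
        rwa [orderOf_injective _ (MulAut.conj g).injective]
    exact hle hn⟩
  have hTH : T ≤ H := fun t ht => Subgroup.subset_closure (Or.inl ⟨t, ht, 1, by simp⟩)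
  have hHker : H ≤ τ.ker.map H₀.subtype := (Subgroup.closure_le _).2 fun x hx => by
    rcases hx with ⟨t, ht, g, rfl⟩ | ⟨hx, hcop⟩
    · refine ⟨⟨_, hH₀n.conj_mem t (hTH₀ ht) g⟩, ?_, rfl⟩
      set y : H₀ := ⟨_, hH₀n.conj_mem t (hTH₀ ht) g⟩ with hy
      have hyp : IsPGroup p (Subgroup.zpowers (y : G)) := by
        have h1 : IsPGroup p (Subgroup.zpowers t) := hTp.to_le (Subgroup.zpowers_le.2 ht)
        refine (h1.map (MulAut.conj g).toMonoidHom).to_le ?_
        rw [Subgroup.zpowers_le]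
        exact ⟨t, Subgroup.mem_zpowers t, rfl⟩
      obtain ⟨h, hh, hconj⟩ := IsSylowIn.exists_conj_le ⟨R₀, hR₀⟩ hyp (Subgroup.zpowers_le.2 y.2)
      have hS1 := (hconj _ (Subgroup.mem_zpowers _)).1
      have hyPg : (⟨h, hh⟩ * y * ⟨h, hh⟩⁻¹ : H₀) ∈ Pg := (hPgmem _).2 hS1
      have hyT : ((⟨h, hh⟩ * y * ⟨h, hh⟩⁻¹ : H₀) : G) ∈ T := by
        show h * (g * t * g⁻¹) * h⁻¹ ∈ T
        have e : h * (g * t * g⁻¹) * h⁻¹ = (h * g) * t * (h * g)⁻¹ := by group
        rw [e]
        exact hclosed t ht _ (by rw [← e]; exact hS1)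
      have h1 : τ (⟨h, hh⟩ * y * ⟨h, hh⟩⁻¹) = 1 := by
        refine (hτ ⟨_, hyPg⟩).trans ?_
        rw [show QuotientGroup.mk' Tn ⟨_, hyPg⟩ = 1 from (QuotientGroup.eq_one_iff _).2 hyT, one_pow]
      rw [map_mul, map_mul, map_inv, conj_eq_one_iff] at h1
      exact h1
    · refine ⟨⟨x, hx⟩, ?_, rfl⟩
      refine CfsgLib.Transfer.pResidual_le_ker_of_isPGroup ((R₀.2).to_quotient Tn) τ
        (CfsgLib.Transfer.mem_pResidual_of_coprime ?_)
      rwa [← Subgroup.orderOf_coe]
  have hHS : ∀ x ∈ H, x ∈ (S : Subgroup G) → x ∈ T := by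
    intro x hxH hxS
    obtain ⟨y, hy, rfl⟩ := hHker hxH
    have hyPg : y ∈ Pg := (hPgmem y).2 hxS
    have h1 : (QuotientGroup.mk' Tn ⟨y, hyPg⟩) ^ Pg.index = 1 := (hτ ⟨y, hyPg⟩).symm.trans hy
    obtain ⟨k, hk⟩ := (R₀.2).to_quotient Tn (QuotientGroup.mk' Tn ⟨y, hyPg⟩)
    have hcop : Nat.Coprime Pg.index (p ^ k) :=
      (((Fact.out : p.Prime).coprime_iff_not_dvd.2 R₀.not_dvd_index).symm).pow_right k
    have h2 : orderOf (QuotientGroup.mk' Tn ⟨y, hyPg⟩) = 1 :=
      Nat.eq_one_of_dvd_coprimes hcop (orderOf_dvd_of_pow_eq_one h1) (orderOf_dvd_of_pow_eq_one hk)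
    exact (QuotientGroup.eq_one_iff (⟨y, hyPg⟩ : Pg)).1 (orderOf_eq_one_iff.1 h2)
  have hSyl : IsSylowIn p T H := isSylowIn_of_card_le hTp hTH fun U hU hUH => by
    obtain ⟨m, hm, hconj⟩ := IsSylowIn.exists_conj_le ⟨R₀, hR₀⟩ hU (hUH.trans hHH₀)
    exact Nat.card_le_card_of_injective
      (fun u : U => (⟨m * u * m⁻¹, hHS _ (hHn.conj_mem _ (hUH u.2) m) (hconj u u.2).1⟩ : T))
      fun a b h => Subtype.ext (mul_left_cancel (mul_right_cancel (Subtype.ext_iff.1 h)))
  set B := H.map ρ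
  -- automorphisms of `T` of order prime to `p` come from `H`
  have hkey : ∀ α : E.autGroup T, Nat.Coprime (orderOf α) p →
      ∃ g ∈ H, ∀ x : T, g * (x : G) * g⁻¹ = (((α : MulAut T) x : T) : G) := by
    intro α hα
    have hext' := hext α α.2
    set U := T ⊔ centralizerIn (S : Subgroup G) T with hUdef
    obtain ⟨β, hβ, hβT, hβC⟩ := hext'
    have hUS : U ≤ (S : Subgroup G) := sup_le hTS (centralizerIn_le _ T)
    obtain ⟨-, -, g, hg⟩ := (mem_autGroup_iff_hom hUS).1 hβ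
    replace hg : ∀ u : U, ((β u : U) : G) = g * (u : G) * g⁻¹ := hg
    have hgood : ∀ u ∈ U, g * u * g⁻¹ ∈ U ∧ u⁻¹ * (g * u * g⁻¹) ∈ T := by
      intro u hu
      refine ⟨by rw [← hg ⟨u, hu⟩]; exact (β _).2, ?_⟩
      let K : Subgroup U :=
        { carrier := {v | (v : G)⁻¹ * (g * (v : G) * g⁻¹) ∈ T}
          one_mem' := by simp [T.one_mem]
          mul_mem' := fun {a b} ha hb => by
            show ((a : G) * b)⁻¹ * (g * ((a : G) * b) * g⁻¹) ∈ T
            have h1 := T.mul_mem (hTn _ ((S : Subgroup G).inv_mem (hUS b.2)) _ ha) hb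
            simpa [mul_assoc] using h1
          inv_mem' := fun {a} ha => by
            show ((a : G)⁻¹)⁻¹ * (g * (a : G)⁻¹ * g⁻¹) ∈ T
            have h1 := hTn _ (hUS a.2) _ (T.inv_mem ha)
            simpa [mul_assoc] using h1 }
      suffices U ≤ K.map U.subtype by
        obtain ⟨v, hv, hvu⟩ := this hu
        rw [← hvu]
        exact hv
      refine sup_le (fun t ht => ⟨⟨t, le_sup_left (b := centralizerIn (S : Subgroup G) T) ht⟩, ?_, rfl⟩)
        (fun c hc => ⟨⟨c, le_sup_right (a := T) hc⟩, ?_, rfl⟩)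
      · show t⁻¹ * (g * t * g⁻¹) ∈ T
        have h1 := hg (Subgroup.inclusion le_sup_left ⟨t, ht⟩)
        rw [hβT] at h1
        have h2 : g * t * g⁻¹ = (((α : MulAut T) ⟨t, ht⟩ : T) : G) := h1.symm
        rw [h2]
        exact T.mul_mem (T.inv_mem ht) ((α : MulAut T) _).2
      · show c⁻¹ * (g * c * g⁻¹) ∈ T
        have h1 := (hβC ⟨c, le_sup_right (a := T) hc⟩ hc).1
        rwa [hg] at h1
    have hpow : ∀ n : ℕ, (∀ u ∈ U, g ^ n * u * (g ^ n)⁻¹ ∈ U ∧ u⁻¹ * (g ^ n * u * (g ^ n)⁻¹) ∈ T) ∧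
        ∀ x : T, g ^ n * (x : G) * (g ^ n)⁻¹ = ((((α : MulAut T) ^ n) x : T) : G) := by
      intro n
      induction n with
      | zero => exact ⟨fun u hu => by simp [hu, T.one_mem], fun x => by simp⟩
      | succ n ih =>
        have e : ∀ u : G, g ^ (n + 1) * u * (g ^ (n + 1))⁻¹ = g * (g ^ n * u * (g ^ n)⁻¹) * g⁻¹ :=
          fun u => by rw [pow_succ']; group
        refine ⟨fun u hu => ?_, fun x => ?_⟩
        · obtain ⟨h1, h2⟩ := ih.1 u hu
          obtain ⟨h3, h4⟩ := hgood _ h1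
          refine ⟨by rw [e]; exact h3, ?_⟩
          rw [e]
          have := T.mul_mem h2 h4
          simpa [mul_assoc] using this
        · rw [e, ih.2, pow_succ' (α : MulAut T), MulAut.mul_apply]
          have h1 := hg (Subgroup.inclusion le_sup_left (((α : MulAut T) ^ n) x))
          rw [hβT] at h1
          exact h1.symm
    obtain ⟨k, hk⟩ := CfsgLib.Transfer.exists_pow_coprime_orderOf (p := p) g
    obtain ⟨j, hj⟩ := exists_pow_eq_self_of_coprime (hα.symm.pow_left k)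
    set g' := g ^ (p ^ k * j)
    have hg'cop : Nat.Coprime (orderOf g') p := by
      show Nat.Coprime (orderOf (g ^ (p ^ k * j))) p
      rw [pow_mul]
      exact hk.coprime_dvd_left (orderOf_pow_dvd j)
    have hg'α : ∀ x : T, g' * (x : G) * g'⁻¹ = (((α : MulAut T) x : T) : G) := fun x => by
      rw [(hpow _).2 x, pow_mul, show ((α : MulAut T) ^ p ^ k) ^ j = α from congrArg Subtype.val hj]
    have hg'U := (hpow (p ^ k * j)).1
    -- the Sylow subgroup of the automorphisms of `T`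
    obtain ⟨-, PT, hPT⟩ := isFullyAutomized_of_isFullyNormalized hTp hEs (isFullyNormalized_top E)
    have hstab : g' ∈ stab p R := by
      intro q hq
      set w := q⁻¹ * g' * q * g'⁻¹ with hwdef
      have hwQ : w ∈ pCore p G := by
        have := (pCore p G).mul_mem ((pCore p G).inv_mem hq) (hQn.conj_mem q hq g')
        simpa [hwdef, mul_assoc] using this
      set γ := conjAut T q⁻¹ (hTN _ (inv_mem (hQS hq))) with hγdef
      have hγF : γ ∈ F.autGroup T :=
        autInducedBy_le_autGroup F hTS (conjAut_mem_autInducedBy (inv_mem (hQS hq)) _)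
      have hδ : γ * (α : MulAut T) * γ⁻¹ * (α : MulAut T)⁻¹ ∈ E.autGroup T :=
        mul_mem (autGroup_conj_mem hinv hTS le_rfl hγF α.2) (inv_mem α.2)
      have hδS : γ * (α : MulAut T) * γ⁻¹ * (α : MulAut T)⁻¹ ∈ autInducedBy (S : Subgroup G) T := by
        refine mem_autInducedBy_iff.2 ⟨w, hQS hwQ, fun y => ?_⟩
        obtain ⟨x, rfl⟩ := (α : MulAut T).surjective y
        obtain ⟨z, rfl⟩ := γ.surjective x
        show ((γ ((α : MulAut T) (γ⁻¹ ((α : MulAut T)⁻¹ ((α : MulAut T) (γ z))))) : T) : G) = _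
        rw [MulAut.inv_apply_self, MulAut.inv_apply_self, hγdef, conjAut_apply, ← hg'α, ← hg'α,
          conjAut_apply, hwdef]
        group
      set V := (autInducedBy (S : Subgroup G) T).subgroupOf (E.autGroup T)
      have hV : IsPGroup p V := (isPGroup_autInducedBy hSp T).comap_subtype
      have heq := PT.is_maximal' hV (by rw [hPT]; exact fun a ha => autInducedBy_mono hTS T ha)
      have hmem : (⟨_, hδ⟩ : E.autGroup T) ∈ V := hδS
      rw [heq, hPT] at hmem
      obtain ⟨t, ht, hwt⟩ := mem_autInducedBy_iff.1 (Subgroup.mem_subgroupOf.1 hmem)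
      obtain ⟨w', hw'S, hw'⟩ := mem_autInducedBy_iff.1 hδS
      have hwU : w ∈ U := by
        have hw2 : ∀ y : T, w * (y : G) * w⁻¹ = t * (y : G) * t⁻¹ := by
          intro y
          rw [← hwt y]
          obtain ⟨x, rfl⟩ := (α : MulAut T).surjective y
          obtain ⟨z, rfl⟩ := γ.surjective x
          show _ = ((γ ((α : MulAut T) (γ⁻¹ ((α : MulAut T)⁻¹ ((α : MulAut T) (γ z))))) : T) : G)
          rw [MulAut.inv_apply_self, MulAut.inv_apply_self, hγdef, conjAut_apply, ← hg'α, ← hg'α,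
            conjAut_apply, hwdef]
          group
        have hc : t⁻¹ * w ∈ centralizerIn (S : Subgroup G) T :=
          ⟨(S : Subgroup G).mul_mem ((S : Subgroup G).inv_mem (hTS ht)) (hQS hwQ),
            Subgroup.mem_centralizer_iff.2 fun y hy => by
              calc y * (t⁻¹ * w) = t⁻¹ * (t * y * t⁻¹) * w := by group
                _ = _ := by rw [← hw2 ⟨y, hy⟩]; group⟩
        have := U.mul_mem (le_sup_left (b := centralizerIn (S : Subgroup G) T) ht)
          (le_sup_right (a := T) hc)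
        rwa [mul_inv_cancel_left] at this
      have hwR : w⁻¹ * (g' * w * g'⁻¹) ∈ R :=
        ⟨(hg'U w hwU).2, (pCore p G).mul_mem ((pCore p G).inv_mem hwQ) (hQn.conj_mem w hwQ g')⟩
      let π := QuotientGroup.mk' R
      have hπw : π g' * π w * (π g')⁻¹ = π w := by
        have h0 : π (w⁻¹ * (g' * w * g'⁻¹)) = 1 := (QuotientGroup.eq_one_iff _).2 hwR
        rw [map_mul, map_inv, inv_mul_eq_one, map_mul, map_mul, map_inv] at h0
        exact h0.symm
      have hiter : ∀ n : ℕ, π g' ^ n * π q * (π g' ^ n)⁻¹ = π q * π w ^ n := by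
        intro n
        induction n with
        | zero => simp
        | succ n ih =>
          have hq1 : π g' * π q * (π g')⁻¹ = π q * π w := by
            rw [← map_inv, ← map_mul, ← map_mul, ← map_mul]
            exact congrArg π (by rw [hwdef]; group)
          calc π g' ^ (n + 1) * π q * (π g' ^ (n + 1))⁻¹
              = π g' * (π g' ^ n * π q * (π g' ^ n)⁻¹) * (π g')⁻¹ := by rw [pow_succ']; group
            _ = (π g' * π q * (π g')⁻¹) * (π g' * π w * (π g')⁻¹) ^ n := by rw [ih, conj_pow]; group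
            _ = _ := by rw [hq1, hπw, pow_succ', mul_assoc]
      have hn := hiter (orderOf g')
      rw [← map_pow π g', pow_orderOf_eq_one, map_one, one_mul, inv_one, mul_one, eq_comm,
        mul_eq_left] at hn
      obtain ⟨m, hm⟩ := (CfsgLib.Solvable.pCore_isPGroup p G) ⟨w, hwQ⟩
      have hm' : π w ^ p ^ m = 1 := by
        rw [← map_pow, show w ^ p ^ m = 1 from congrArg Subtype.val hm, map_one]
      have h1 : orderOf (π w) = 1 := Nat.eq_one_of_dvd_coprimes (hg'cop.pow_right m)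
        (orderOf_dvd_of_pow_eq_one hn) (orderOf_dvd_of_pow_eq_one hm')
      exact (QuotientGroup.eq_one_iff _).1 (orderOf_eq_one_iff.1 h1)
    refine ⟨g', Subgroup.subset_closure (Or.inr ⟨⟨hstab, ?_⟩, hg'cop⟩), hg'α⟩
    refine (mem_autGroup_iff_hom hRT).2
      (mem_of_restrict ((mem_autGroup_iff_hom le_rfl).1 α.2) hRT _ fun x => ?_)
    show ((ρ g' x : R) : G) = _
    rw [hρ]
    exact hg'α ⟨x, hRT x.2⟩
  have hBT : ∀ α ∈ E.autGroup T, ∃ g ∈ H, ∀ x : T, g * (x : G) * g⁻¹ = ((α x : T) : G) := by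
    intro α hα
    have : Finite (MulAut T) := finite_mulAut
    let K : Subgroup (E.autGroup T) :=
      { carrier := {a | ∃ g ∈ H, ∀ x : T, g * (x : G) * g⁻¹ = (((a : MulAut T) x : T) : G)}
        one_mem' := ⟨1, H.one_mem, fun x => by simp⟩
        mul_mem' := by
          rintro a b ⟨g, hg, hga⟩ ⟨h, hh, hhb⟩
          refine ⟨g * h, H.mul_mem hg hh, fun x => ?_⟩
          show _ = (((a : MulAut T) ((b : MulAut T) x) : T) : G)
          rw [← hga, ← hhb]
          group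
        inv_mem' := by
          rintro a ⟨g, hg, hga⟩
          refine ⟨g⁻¹, H.inv_mem hg, fun x => ?_⟩
          show _ = ((((a : MulAut T))⁻¹ x : T) : G)
          have := hga ((a : MulAut T)⁻¹ x)
          rw [MulAut.apply_inv_self] at this
          rw [← this]
          group }
    obtain ⟨-, PT, hPT⟩ := isFullyAutomized_of_isFullyNormalized hTp hEs (isFullyNormalized_top E)
    have htop : (⊤ : Subgroup (E.autGroup T)) ≤ K := by
      rw [← CfsgLib.Transfer.pResidual_sup_of_sylow PT]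
      refine sup_le ((Subgroup.closure_le _).2 fun a ha => hkey a ha) fun a ha => ?_
      rw [hPT] at ha
      obtain ⟨t, ht, hx⟩ := mem_autInducedBy_iff.1 (Subgroup.mem_subgroupOf.1 ha)
      exact ⟨t, hTH ht, fun x => (hx x).symm⟩
    exact htop (Subgroup.mem_top ⟨α, hα⟩)
  have hAB : E.autGroup R ≤ B := by
    intro a ha
    set B' := B.subgroupOf (E.autGroup R)
    have hB'n : B'.Normal := by
      constructor
      rintro c hc b
      obtain ⟨h, hh, hhc⟩ := hc
      obtain ⟨-, -, g, hg⟩ := (mem_autGroup_iff_hom hRS).1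
        ((mem_autGroup_iff_hom hRS).2 (hEF R ((mem_autGroup_iff_hom hRT).1 b.2)) :
          (b : MulAut R) ∈ F.autGroup R)
      refine ⟨g * h * g⁻¹, hHn.conj_mem h hh g, ?_⟩
      rw [map_mul, map_mul, map_inv, hhc]
      have : ρ g = (b : MulAut R) := MulEquiv.ext fun x => Subtype.ext ((hρ g x).trans (hg x).symm)
      rw [this]
      rfl
    have hPB : (PA : Subgroup (E.autGroup R)) ≤ B' := by
      rw [hPA]
      intro c hc
      obtain ⟨t, ht, hx⟩ := mem_autInducedBy_iff.1 (Subgroup.mem_subgroupOf.1 hc)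
      exact ⟨t, hTH ht, MulEquiv.ext fun x => Subtype.ext ((hρ t x).trans (hx x).symm)⟩
    have : Finite (MulAut R) := finite_mulAut
    have htop := Sylow.normalizer_sup_eq_top' PA hPB
    have hmem : (⟨a, ha⟩ : E.autGroup R) ∈
        Subgroup.normalizer (PA : Set (E.autGroup R)) ⊔ B' := by
      rw [htop]
      exact Subgroup.mem_top _
    obtain ⟨n, hn, b, hb, hnb⟩ := Subgroup.mem_sup_of_normal_right.1 hmem
    have hnB : (n : MulAut R) ∈ B := by
      have hniso : IsFIso E ((n : MulAut R) : R ≃* R) := (mem_autGroup_iff hRT).1 n.2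
      have hTN' : T ≤ normalizerIn T R := fun x hx => ⟨hx, Subgroup.mem_normalizer_iff.2 fun r =>
        ⟨fun hr => hRn.conj_mem r hr x, fun hr => by
          simpa [mul_assoc] using hRn.conj_mem _ hr x⁻¹⟩⟩
      obtain ⟨ψ, hψ, -, hag⟩ := hniso.exists_extension hrec hRT hTN' fun t ht => by
        have hc : (⟨conjAut R t (hTN' ht).2, autInducedBy_le_autGroup E hRT
            (conjAut_mem_autInducedBy ht _)⟩ : E.autGroup R) ∈ (PA : Subgroup (E.autGroup R)) := by
          rw [hPA]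
          exact conjAut_mem_autInducedBy ht _
        have h1 := (Subgroup.mem_normalizer_iff.1 hn _).1 hc
        rw [hPA] at h1
        exact h1
      obtain ⟨α, hα, hαx⟩ := exists_aut hψ (range_eq_of_le (hom_inj hψ) fun x => (E.le_of_mem hψ).2 x)
      obtain ⟨g, hg, hgx⟩ := hBT α hα
      refine ⟨g, hg, MulEquiv.ext fun x => Subtype.ext ?_⟩
      rw [hρ]
      exact (hgx ⟨x, hRT x.2⟩).trans ((hαx _).trans (hag x))
    rw [show a = (n : MulAut R) * (b : MulAut R) from (congrArg Subtype.val hnb).symm]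
    exact B.mul_mem hnB hb
  -- the two systems agree
  set E' := fusionSystemOfSubgroup H T hTH
  have hE's : E'.IsSaturated p := fusionSystemOfSubgroup_isSaturated hTH hSyl
  have hE'F : E'.IsSubsystemOf F := fun P φ hφ =>
    ⟨hφ.1.trans hTS, fun x => hTS (hφ.2.1 x), hφ.2.2.choose, hφ.2.2.choose_spec.2⟩
  have hE'inv : IsStronglyInvariant E' F := stronglyInvariant_of_eq_inf S H
    (le_antisymm (le_inf hTS hTH) fun x hx => hHS x hx.2 hx.1) hTH
  have hA' : ∀ a : MulAut R, a ∈ E'.autGroup R ↔ a ∈ B := fun a => by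
    rw [mem_autGroup_iff_hom hRT]
    constructor
    · rintro ⟨-, -, g, hg, hgx⟩
      exact ⟨g, hg, MulEquiv.ext fun x => Subtype.ext ((hρ g x).trans (hgx x).symm)⟩
    · rintro ⟨g, hg, rfl⟩
      exact ⟨hRT, fun x => hRT (ρ g x).2, g, hg, hρ g⟩
  have hHom : ∀ P, E.Hom P = E'.Hom P := fun P => subset_antisymm
    (le_of_autGroup hTp hTS hEs hE's hEF hE'F hE'inv hFR hRT hC (fun a ha => (hA' a).2 (hAB ha)) P)
    (le_of_autGroup hTp hTS hE's hEs hE'F hEF hinv hFR hRT hC (fun a ha => by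
      obtain ⟨g, hg, rfl⟩ := (hA' a).1 ha
      exact (hHH₀ hg).2) P)
  refine ⟨H, ⟨hTH, hHn, hSyl, hHom⟩, ?_⟩
  -- uniqueness
  rintro H' ⟨hTH', hH'n, hSyl', hHom'⟩
  have hH'S : ∀ x ∈ H', x ∈ (S : Subgroup G) → x ∈ T := by
    intro x hx hxS
    have hle := IsSylowIn.card_le hSyl' hTH' (hSp.to_le (inf_le_left : (S : Subgroup G) ⊓ H' ≤ _))
      inf_le_right
    have heq := Subgroup.eq_of_le_of_card_ge (le_inf hTS hTH') hle
    rw [heq]
    exact ⟨hxS, hx⟩
  have hρ' : ∀ a : MulAut R, a ∈ E.autGroup R ↔ ∃ g ∈ H', ρ g = a := fun a => by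
    rw [mem_autGroup_iff_hom hRT, hHom']
    constructor
    · rintro ⟨-, -, g, hg, hgx⟩
      exact ⟨g, hg, MulEquiv.ext fun x => Subtype.ext ((hρ g x).trans (hgx x).symm)⟩
    · rintro ⟨g, hg, rfl⟩
      exact ⟨hRT, fun x => hRT (ρ g x).2, g, hg, hρ g⟩
  have hH'H₀ : H' ≤ H₀ := fun h hh => by
    refine ⟨fun q hq => ?_, (hρ' _).2 ⟨h, hh, rfl⟩⟩
    have h1 : q⁻¹ * h * q * h⁻¹ ∈ H' :=
      H'.mul_mem (by simpa using hH'n.conj_mem h hh q⁻¹) (H'.inv_mem hh)
    have h2 : q⁻¹ * h * q * h⁻¹ ∈ pCore p G := by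
      have := (pCore p G).mul_mem ((pCore p G).inv_mem hq) (hQn.conj_mem q hq h)
      simpa [mul_assoc] using this
    exact ⟨hH'S _ h1 (hQS h2), h2⟩
  refine le_antisymm ?_ ?_
  · obtain ⟨R', hR'⟩ := hSyl'
    intro h hh
    have htop : (⊤ : Subgroup H') ≤ H.subgroupOf H' := by
      rw [← CfsgLib.Transfer.pResidual_sup_of_sylow R']
      refine sup_le ((Subgroup.closure_le _).2 fun a ha => ?_) fun a ha => ?_
      · refine Subgroup.subset_closure (Or.inr ⟨hH'H₀ a.2, ?_⟩)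
        show Nat.Coprime (orderOf (a : G)) p
        rw [Subgroup.orderOf_coe]
        exact ha
      · rw [hR'] at ha
        exact hTH ha
    exact htop (Subgroup.mem_top ⟨h, hh⟩)
  · refine (Subgroup.closure_le _).2 fun x hx => ?_
    rcases hx with ⟨t, ht, g, rfl⟩ | ⟨hx, hcop⟩
    · exact hH'n.conj_mem t (hTH' ht) g
    obtain ⟨y, hy, hyx⟩ := (hρ' _).1 hx.2
    have hq : y⁻¹ * x ∈ pCore p G := by
      refine mem_pCore_of_stab hG hRQ ((stab p R).mul_mem ((stab p R).inv_mem (hH'H₀ hy).1) hx.1)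
        (Subgroup.mem_centralizer_iff.2 fun r hr => ?_)
      have h1 : y * r * y⁻¹ = x * r * x⁻¹ := by rw [← hρ y ⟨r, hr⟩, hyx, hρ]
      calc r * (y⁻¹ * x) = y⁻¹ * (y * r * y⁻¹) * x := by group
        _ = _ := by rw [h1]; group
    let π := QuotientGroup.mk' H'
    have hπ : π x = π (y⁻¹ * x) := by
      rw [map_mul, map_inv, show π y = 1 from (QuotientGroup.eq_one_iff _).2 hy, inv_one, one_mul]
    obtain ⟨m, hm⟩ := (CfsgLib.Solvable.pCore_isPGroup p G) ⟨_, hq⟩
    have hm' : π x ^ p ^ m = 1 := by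
      rw [hπ, ← map_pow, show (y⁻¹ * x) ^ p ^ m = 1 from congrArg Subtype.val hm, map_one]
    have h1 : orderOf (π x) = 1 := Nat.eq_one_of_dvd_coprimes (hcop.pow_right m)
      (orderOf_map_dvd π x) (orderOf_dvd_of_pow_eq_one hm')
    exact (QuotientGroup.eq_one_iff _).1 (orderOf_eq_one_iff.1 h1)

end CfsgLib.Fusion.ModelNormal
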